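import Mathlib

/-!
# Counting subgroups (helper765, S3499 rows)

* `exists_gen` : a finite group is generated by at most `Ω(|G|)` elements;
* `ncard_subgroups_le` : `A` has at most `|A| ^ Ω(|A|)` subgroups.
-/

set_option autoImplicit false

namespace Cfsg.Agent.H765.EPR

open Subgroup ArithmeticFunction

theorem omega_lt_of_dvd {m n : ℕ} (hn : n ≠ 0) (hd : m ∣ n) (hne : m ≠ n) : cardFactors m < cardFactors n := by
  obtain ⟨k, rfl⟩ := hd
  have hm : m ≠ 0 := left_ne_zero_of_mul hn
  have hk : k ≠ 0 := right_ne_zero_of_mul hn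
  have hk1 : k ≠ 1 := by
    rintro rfl
    exact hne (mul_one m).symm
  rw [cardFactors_mul hm hk]
  have h1 : 0 < cardFactors k := by
    obtain ⟨p, hp, l, rfl⟩ := Nat.exists_prime_and_dvd hk1
    rw [cardFactors_mul hp.ne_zero (right_ne_zero_of_mul hk), cardFactors_apply_prime hp]
    omega
  omega

theorem omega_le_of_dvd {m n : ℕ} (hn : n ≠ 0) (hd : m ∣ n) : cardFactors m ≤ cardFactors n := by
  by_cases h : m = n
  · rw [h]
  · exact (omega_lt_of_dvd hn hd h).le

/-- a finite group is generated by a subgroup `K` and at most `Ω(|G : K|)` elements -/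
theorem exists_gen {G : Type*} [Group G] [Finite G] : ∀ (n : ℕ) (K : Subgroup G), cardFactors K.index ≤ n →
    ∃ f : Fin n → G, K ⊔ closure (Set.range f) = ⊤ := by
  intro n
  induction n with
  | zero =>
    intro K hK
    refine ⟨fun i => i.elim0, ?_⟩
    have h1 : K.index = 1 := by
      by_contra hne
      have h2 := omega_lt_of_dvd (m := 1) (Subgroup.index_ne_zero_of_finite (H := K)) (one_dvd _) (Ne.symm hne)
      omega
    rw [Subgroup.index_eq_one.1 h1, top_sup_eq]
  | succ n ih =>
    intro K hK
    by_cases hT : K = ⊤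
    · exact ⟨fun _ => 1, by rw [hT, top_sup_eq]⟩
    · obtain ⟨x, hx⟩ : ∃ x, x ∉ K := by
        by_contra hcon
        push Not at hcon
        exact hT ((Subgroup.eq_top_iff' K).2 hcon)
      have hle : K ≤ K ⊔ zpowers x := le_sup_left
      have hd : (K ⊔ zpowers x).index ∣ K.index := Subgroup.index_dvd_of_le hle
      have hne : (K ⊔ zpowers x).index ≠ K.index := by
        intro e
        have h1 := Subgroup.relIndex_mul_index hle
        rw [e] at h1
        have h0 : K.index ≠ 0 := Subgroup.index_ne_zero_of_finite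
        have h2 : K.relIndex (K ⊔ zpowers x) = 1 := by
          have : K.relIndex (K ⊔ zpowers x) * K.index = 1 * K.index := by rw [h1, one_mul]
          exact Nat.eq_of_mul_eq_mul_right (Nat.pos_of_ne_zero h0) this
        rw [Subgroup.relIndex_eq_one] at h2
        exact hx (h2 (le_sup_right (α := Subgroup G) (mem_zpowers x)))
      have hlt := omega_lt_of_dvd (Subgroup.index_ne_zero_of_finite (H := K)) hd hne
      obtain ⟨f, hf⟩ := ih (K ⊔ zpowers x) (by omega)
      refine ⟨Fin.cons x f, ?_⟩
      rw [eq_top_iff, ← hf]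
      refine sup_le (sup_le le_sup_left ?_) (le_sup_of_le_right ?_)
      · rw [zpowers_le]
        exact le_sup_right (α := Subgroup G) (subset_closure ⟨0, rfl⟩)
      · apply Subgroup.closure_mono
        rintro _ ⟨i, rfl⟩
        exact ⟨i.succ, rfl⟩

/-- a finite group is generated by at most `Ω(|G|)` elements -/
theorem exists_gen' {G : Type*} [Group G] [Finite G] {n : ℕ} (hn : cardFactors (Nat.card G) ≤ n) :
    ∃ f : Fin n → G, closure (Set.range f) = ⊤ := by
  obtain ⟨f, hf⟩ := exists_gen n (⊥ : Subgroup G) (by rwa [Subgroup.index_bot])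
  exact ⟨f, by rwa [bot_sup_eq] at hf⟩

/-- the number of subgroups of `A` is at most `|A| ^ Ω(|A|)` -/
theorem ncard_subgroups_le {Q : Type*} [Group Q] [Finite Q] {A : Subgroup Q} {n : ℕ}
    (hn : cardFactors (Nat.card A) ≤ n) {S : Set (Subgroup Q)} (hS : ∀ M ∈ S, M ≤ A) :
    S.ncard ≤ Nat.card A ^ n := by
  classical
  let φ : (Fin n → A) → Subgroup Q := fun f => closure (Set.range fun i => (f i : Q))
  have hsub : S ⊆ Set.range φ := by
    intro M hM
    have hMA := hS M hM
    have hd : Nat.card M ∣ Nat.card A := Subgroup.card_dvd_of_le hMA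
    obtain ⟨f, hf⟩ := exists_gen' (G := M) (n := n) ((omega_le_of_dvd Nat.card_pos.ne' hd).trans hn)
    refine ⟨fun i => ⟨f i, hMA (f i).2⟩, ?_⟩
    have h1 := congrArg (Subgroup.map M.subtype) hf
    rw [MonoidHom.map_closure, ← MonoidHom.range_eq_map, Subgroup.range_subtype, ← Set.range_comp] at h1
    exact h1
  calc S.ncard ≤ (Set.range φ).ncard := Set.ncard_le_ncard hsub (Set.toFinite _)
    _ ≤ Nat.card (Fin n → A) := by
        rw [← Set.image_univ]
        refine (Set.ncard_image_le (Set.toFinite _)).trans ?_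
        rw [Set.ncard_univ]
    _ = Nat.card A ^ n := by
        rw [Nat.card_fun, Nat.card_eq_fintype_card (α := Fin n), Fintype.card_fin]

end Cfsg.Agent.H765.EPR
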