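import Cfsg.Agent.H419.EP.Soc
import Cfsg.Agent.H173.EP.LineBound
import Cfsg.Agent.H765.EPR.Cnt
import Cfsg.Agent.H955.Sp
import Cfsg.Agent.S0813
import Cfsg.Agent.S0815
import Cfsg.Agent.S0280
import Cfsg.Agent.H813.Hol.GrpA
import Cfsg.Agent.ClassicalGeometry.PSL2Basic

/-!
# S3499, the residual class of `Sp₁₀(q)` (helper765, task 5984, statement S5845)

`row_of` : no extremely primitive group with socle `PSp₁₀(q)`, `q ≥ 3`, and residual stabiliser; inputs: the text of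
S5845, an index bound for `L = U₅(2)` and the case `L = PSL₂(F)`, `p ≥ 11`.
-/

set_option autoImplicit false

namespace Cfsg.Agent.H765.EPR

open Subgroup Cfsg.Agent.H284 Cfsg.Agent.H419.EP ArithmeticFunction
open scoped MatrixGroups

section tools

variable {Q : Type*} [Group Q] [Finite Q] {A : Subgroup Q} {Γ : Subgroup (MulAut Q)}

/-- UB1 and the trivial bound for the number of subgroups -/
theorem index_le_of_dvd (hs : IsSimpleGroup Q) (h : EPT A Γ) {N n : ℕ} (hN0 : N ≠ 0) (hN : Nat.card A ∣ N)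
    (hn : cardFactors N ≤ n) : A.index ≤ 1 + N ^ n * N := by
  have hmu : ∀ x, x ∉ A → 2 ≤ Nat.card (A ⊓ cj x A : Subgroup Q) := by
    intro x hx
    have h1 := h.M0 x hx
    by_contra hcon
    have h2 : 0 < Nat.card (A ⊓ cj x A : Subgroup Q) := Nat.card_pos
    exact h1 (Subgroup.card_eq_one.1 (by omega))
  have h1 := H173.EP.ub1 hs h (μ := 2) (by norm_num) hmu
  have h2 : {M : Subgroup Q | ∃ x, x ∉ A ∧ M = A ⊓ cj x A}.ncard ≤ Nat.card A ^ n := by
    apply ncard_subgroups_le ((omega_le_of_dvd hN0 hN).trans hn)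
    rintro M ⟨x, _, rfl⟩
    exact inf_le_left
  have h3 : Nat.card A ≤ N := Nat.le_of_dvd (Nat.pos_of_ne_zero hN0) hN
  refine h1.trans (Nat.add_le_add_left (Nat.mul_le_mul (h2.trans (Nat.pow_le_pow_left h3 n)) ?_) 1)
  have := Nat.div_mul_le_self (Nat.card A) 2
  omega

theorem card_dvd_of_soc {L : Type*} [Group L] (h : HasSoc A L) : Nat.card A ∣ Nat.card (MulAut L) := by
  obtain ⟨f, hf⟩ := h.exists_hom
  exact Subgroup.card_dvd_of_injective f hf

/-- the order of `Q` -/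
theorem card_le_of_soc (hs : IsSimpleGroup Q) (h : EPT A Γ) {L : Type*} [Group L] (hL : HasSoc A L) {N n : ℕ}
    (hN0 : N ≠ 0) (hN : Nat.card (MulAut L) = N) (hn : cardFactors N ≤ n) : Nat.card Q ≤ N * (1 + N ^ n * N) := by
  have hd := card_dvd_of_soc hL
  rw [hN] at hd
  rw [← A.card_mul_index]
  exact Nat.mul_le_mul (Nat.le_of_dvd (Nat.pos_of_ne_zero hN0) hd) (index_le_of_dvd hs h hN0 hd hn)

variable {F : Type*} [Field F] [Fintype F]

theorem card_ker_le {ι : Type} [Fintype ι] [DecidableEq ι] [Nonempty ι] {S : Subgroup (GL ι F)} (m : Model Q S) :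
    Nat.card m.π.ker ≤ Fintype.card F - 1 := by
  classical
  have h1 : ∀ s : m.π.ker, ∃ c : Fˣ, (((s : S) : GL ι F) : Matrix ι ι F) = (c : F) • (1 : Matrix ι ι F) := fun s =>
    (Cfsg.Geo.mem_scalars_iff _).1 ((m.ker s).1 (MonoidHom.mem_ker.1 s.2))
  choose c hc using h1
  have hinj : Function.Injective c := by
    intro s t hst
    apply Subtype.ext
    apply Subtype.ext
    apply Units.ext
    rw [hc s, hc t, hst]
  have h2 := Nat.card_le_card_of_injective c hinj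
  rwa [Nat.card_eq_fintype_card (α := Fˣ), Fintype.card_units] at h2

theorem card_model {ι : Type} [Fintype ι] [DecidableEq ι] [Nonempty ι] {S : Subgroup (GL ι F)} (m : Model Q S) :
    Nat.card S ≤ Nat.card Q * (Fintype.card F - 1) := by
  have h1 := m.π.ker.card_mul_index
  rw [Subgroup.index_ker, MonoidHom.range_eq_top.2 m.surj, Subgroup.card_top] at h1
  rw [← h1, mul_comm]
  exact Nat.mul_le_mul_left _ (card_ker_le m)

/-- the order of `PSp₁₀(q)`, `q ≥ q₀` -/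
theorem card_sp_ten (m : Model Q (Cfsg.spGL 5 F)) {q₀ : ℕ} (h1 : 1 ≤ q₀) (hq : q₀ ≤ Fintype.card F) :
    q₀ ^ 25 * (q₀ + 1) * (q₀ ^ 4 - 1) * (q₀ ^ 6 - 1) * (q₀ ^ 8 - 1) * (q₀ ^ 10 - 1) ≤ Nat.card Q := by
  have h2 := card_model m
  have hq1 : 1 < Fintype.card F := Fintype.one_lt_card
  rw [Cfsg.Agent.H955.card_spGL, Nat.card_eq_fintype_card (α := F)] at h2
  set q := Fintype.card F with hqd
  have e : q ^ 2 - 1 = (q - 1) * (q + 1) := by
    obtain ⟨r, hr⟩ : ∃ r, q = r + 1 := ⟨q - 1, by omega⟩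
    rw [hr, Nat.add_sub_cancel, show (r + 1) ^ 2 = r * (r + 1 + 1) + 1 by ring, Nat.add_sub_cancel]
  rw [show (5 : ℕ) ^ 2 = 25 by norm_num] at h2
  simp only [Finset.prod_range_succ, Finset.prod_range_zero, one_mul, zero_add, mul_one,
    show 2 * (1 + 1) = 4 by norm_num, show 2 * (2 + 1) = 6 by norm_num, show 2 * (3 + 1) = 8 by norm_num,
    show 2 * (4 + 1) = 10 by norm_num] at h2
  rw [e] at h2
  have h3 : (q ^ 25 * (q + 1) * (q ^ 4 - 1) * (q ^ 6 - 1) * (q ^ 8 - 1) * (q ^ 10 - 1)) * (q - 1) ≤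
      Nat.card Q * (q - 1) := by
    refine le_trans (le_of_eq ?_) h2
    ring
  have h4 := Nat.le_of_mul_le_mul_right h3 (by omega)
  refine le_trans ?_ h4
  have hp : ∀ k : ℕ, q₀ ^ k - 1 ≤ q ^ k - 1 := fun k => Nat.sub_le_sub_right (Nat.pow_le_pow_left hq k) 1
  exact Nat.mul_le_mul (Nat.mul_le_mul (Nat.mul_le_mul (Nat.mul_le_mul (Nat.mul_le_mul
    (Nat.pow_le_pow_left hq 25) (Nat.add_le_add_right hq 1)) (hp 4)) (hp 6)) (hp 8)) (hp 10)

end tools

theorem card_aut_psl_two {p : ℕ} [Fact p.Prime] (hp : 4 ≤ p) :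
    Nat.card (MulAut (Matrix.ProjectiveSpecialLinearGroup (Fin 2) (ZMod p))) * (p - 1) =
      (p ^ 2 - 1) * (p ^ 2 - p) := by
  have hF : Fintype.card (ZMod p) = p ^ 1 := by rw [ZMod.card, pow_one]
  have h1 := Cfsg.Agent.S0813.result (F := ZMod p) p 1 le_rfl hF 2 le_rfl (fun _ => by rw [pow_one]; exact hp)
  have h2 := Cfsg.Agent.ClassicalGeometry.PSL2Basic.card_PGL_mul (Fin 2) (ZMod p)
  rw [ZMod.card] at h2
  rw [h1, if_pos rfl, one_mul, one_mul, h2, Matrix.card_GL_field, ZMod.card, Fin.prod_univ_two]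
  simp

theorem card_aut_psl_two_eleven :
    Nat.card (MulAut (Matrix.ProjectiveSpecialLinearGroup (Fin 2) (ZMod 11))) = 1320 := by
  have : Fact (Nat.Prime 11) := ⟨by norm_num⟩
  have h := card_aut_psl_two (p := 11) (by norm_num)
  rw [show (11 ^ 2 - 1) * (11 ^ 2 - 11) = 13200 by norm_num, show 11 - 1 = 10 by norm_num] at h
  omega

theorem card_aut_psu_five {K : Type} [Field K] [Fintype K] (hK : Fintype.card K = 4) :
    Nat.card (MulAut (Cfsg.PSU 5 K 2)) = 27371520 := by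
  have : Fact (Nat.Prime 2) := ⟨Nat.prime_two⟩
  have h1 := Cfsg.Agent.S0815.result (F := K) 2 1 le_rfl (q := 2) (by norm_num) (by rw [hK]; norm_num) 5 (by norm_num)
    (by norm_num)
  have h2 := Cfsg.Agent.S0280.result (F := K) (q := 2) (by rw [hK]; norm_num) 5 (by norm_num)
  simp only [Finset.prod_range_succ, Finset.prod_range_zero] at h2
  norm_num [Nat.even_iff] at h1 h2
  omega

theorem omega_1320 : cardFactors 1320 = 6 := by
  rw [cardFactors_apply]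
  norm_num [Nat.primeFactorsList]

theorem omega_1440 : cardFactors 1440 = 8 := by
  rw [cardFactors_apply]
  norm_num [Nat.primeFactorsList]

/-- the text of S5845 at `Type 0` -/
def St5845 : Prop := ∀ {F : Type} [Field F] [Fintype F] (H : Subgroup (Matrix.GeneralLinearGroup (Fin 5 ⊕ Fin 5) F)) (_hH : Cfsg.Geo.IsMaximalIn (Cfsg.spGL 5 F) H) (_hS : Cfsg.Geo.InSymplecticResidualClass H),
    ∃ (P : Subgroup (Matrix.GeneralLinearGroup (Fin 5 ⊕ Fin 5) F)) (p : ℕ), Cfsg.Geo.IsResidualCore H P ∧ p.Prime ∧ CharP F p ∧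
    ((Nonempty ((P ⧸ (Cfsg.Geo.scalars (Fin 5 ⊕ Fin 5) F).subgroupOf P) ≃* alternatingGroup (Fin 6)) ∧ ((Fintype.card F = p ∧ (p % 16 = 1 ∨ p % 16 = 15 ∨ p % 16 = 7 ∨ p % 16 = 9)) ∨ (Fintype.card F = p ^ 2 ∧ p ≠ 3 ∧ (p % 8 = 3 ∨ p % 8 = 5)))) ∨
     (Nonempty ((P ⧸ (Cfsg.Geo.scalars (Fin 5 ⊕ Fin 5) F).subgroupOf P) ≃* Matrix.ProjectiveSpecialLinearGroup (Fin 2) (ZMod 11)) ∧ ((Fintype.card F = p ∧ p ≠ 11 ∧ (p % 8 = 1 ∨ p % 8 = 7 ∨ p % 8 = 3 ∨ p % 8 = 5 ∨ p % 24 = 1 ∨ p % 24 = 23 ∨ p % 24 = 11 ∨ p % 24 = 13)) ∨ (Fintype.card F = p ^ 2 ∧ (p % 12 = 5 ∨ p % 12 = 7)))) ∨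
     ((∃ (K : Type) (_ : Field K) (_ : Fintype K), Fintype.card K = 4 ∧ Nonempty ((P ⧸ (Cfsg.Geo.scalars (Fin 5 ⊕ Fin 5) F).subgroupOf P) ≃* Cfsg.PSU 5 K 2)) ∧ Fintype.card F = p ∧ Odd p) ∨
     (Nonempty ((P ⧸ (Cfsg.Geo.scalars (Fin 5 ⊕ Fin 5) F).subgroupOf P) ≃* Matrix.ProjectiveSpecialLinearGroup (Fin 2) F) ∧ 11 ≤ p))

/-- **The row of S5845.** -/
theorem row_of (h5845 : St5845) {Q : Type} [Group Q] [Finite Q] (hs : IsSimpleGroup Q) {A : Subgroup Q}
    {Γ : Subgroup (MulAut Q)} (h : EPT A Γ) {F : Type} [Field F] [Fintype F] (m : Model Q (Cfsg.spGL 5 F))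
    (hq : 3 ≤ Fintype.card F) (hres : Cfsg.Geo.InSymplecticResidualClass (m.hat A))
    (hU : ∀ (K : Type) [Field K] [Fintype K], Fintype.card K = 4 → HasSoc A (Cfsg.PSU 5 K 2) → A.index ≤ 2 * 10 ^ 18)
    (hown : ∀ p : ℕ, p.Prime → CharP F p → 11 ≤ p → HasSoc A (Matrix.ProjectiveSpecialLinearGroup (Fin 2) F) → False) :
    False := by
  obtain ⟨P, p, hP, hp, hchar, h1⟩ := h5845 (m.hat A) (m.isMaximalIn h.max) hres
  have hS := hasSoc_of_core m hP
  rcases h1 with ⟨⟨e⟩, hq'⟩ | ⟨⟨e⟩, -⟩ | ⟨⟨K, _, _, hK, ⟨e⟩⟩, -, -⟩ | ⟨⟨e⟩, hp11⟩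
  · -- `A₆`
    have hq7 : 7 ≤ Fintype.card F := by
      rcases hq' with ⟨h2, h3⟩ | ⟨h2, h3, h4⟩
      · rw [h2] at hq ⊢
        by_contra hcon
        have : p = 3 ∨ p = 4 ∨ p = 5 ∨ p = 6 := by omega
        rcases this with rfl | rfl | rfl | rfl <;> omega
      · have hp5 : 5 ≤ p := by omega
        rw [h2]
        nlinarith
    have h5 := card_le_of_soc hs h (hS.congr e) (N := 1440) (by norm_num) Cfsg.Agent.H813.Hol.card_aut (by rw [omega_1440])
    have h6 := card_sp_ten m (by norm_num) hq7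
    have h7 := h6.trans h5
    norm_num at h7
  · have h5 := card_le_of_soc hs h (hS.congr e) (N := 1320) (by norm_num) card_aut_psl_two_eleven (by rw [omega_1320])
    have h6 := card_sp_ten m (by norm_num) hq
    have h7 := h6.trans h5
    norm_num at h7
  · -- `U₅(2)`
    have hL := hS.congr e
    have h5 := hU K hK hL
    have hfin : Finite (Cfsg.PSU 5 K 2) := inferInstance
    have h8 := card_aut_psu_five hK
    have h9 := hL.card_le
    rw [h8] at h9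
    have h10 : Nat.card Q ≤ 27371520 * (2 * 10 ^ 18) := by
      rw [← A.card_mul_index]
      exact Nat.mul_le_mul h9 h5
    have h6 := card_sp_ten m (by norm_num) hq
    have h7 := h6.trans h10
    norm_num at h7
  · exact hown p hp hchar hp11 (hS.congr e)

end Cfsg.Agent.H765.EPR
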